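import Groth.Agent.NonAffine.Cent
import Groth.Agent.MaxTorusBC.Fibre
import Groth.Agent.SubgroupNbhd.Contain
import Groth.Agent.FixTorus.TorusSmooth
import Groth.Prelude.Def_SGA3x

/-! The centraliser of a maximal torus is a Cartan subgroup containing only this maximal torus. -/

set_option backward.isDefEq.respectTransparency false
set_option backward.isDefEq.respectTransparency.types false
set_option linter.style.haveILetI false
set_option autoImplicit false

universe u

open CategoryTheory Limits MonoidalCategory CartesianMonoidalCategory MonObj AlgebraicGeometry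

namespace Groth.Agent.MaxTorCent

open GrpSchLib

variable {S : Scheme.{u}}

/-- The centraliser of a group of multiplicative type in a smooth separated group. -/
theorem exists_centralizer {G T : Over S} [GrpObj G] [GrpObj T] [IsSeparated G.hom] [Smooth G.hom] (iT : T ⟶ G)
    [IsMonHom iT] (hT : SGA3x.IsMultTypeFT T) :
    ∃ (C : Over S) (_ : GrpObj C) (c : C ⟶ G), Red.IsCentralizerOf iT c ∧ IsClosedImmersion c.left ∧ Smooth C.hom := by
  have hact : ∀ {X : Over S} (h : X ⟶ T) (g : X ⟶ G),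
      lift h g ≫ (ConjCentral.conjAction iT).act = (h ≫ iT) * g * (h ≫ iT)⁻¹ := fun h g => by
    show lift h g ≫ ((fst T G ≫ iT) * snd T G * (fst T G ≫ iT)⁻¹) = _
    simp only [MonObj.comp_mul, GrpObj.comp_inv, lift_fst_assoc, lift_snd]
  obtain ⟨Z, _, z, hz, hzc, hzs, hZ⟩ := Groth.Agent.S5442.result S T G hT
    (ConjCentral.conjAction iT) fun X h g g' => by rw [hact, hact, hact]; group
  haveI := hzc
  haveI : Mono z := (Over.forget _).mono_of_mono_map (inferInstanceAs (Mono z.left))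
  exact ⟨Z, inferInstance, z, ⟨hz, inferInstance, fun X g => by
    rw [hZ X g]
    refine forall_congr' fun X' => forall_congr' fun x => forall_congr' fun h => ?_
    rw [hact, mul_inv_eq_iff_eq_mul, eq_comm]⟩, hzc, hzs⟩

/-- Maximal tori stay maximal after base change to the geometric fibres. -/
theorem isMaximalTorus_geomFibre {G T : Over S} [GrpObj G] [GrpObj T] [LocallyOfFinitePresentation G.hom]
    [QuasiCompact G.hom] [QuasiSeparated G.hom] {i : T ⟶ G} (hT : Red.IsMaximalTorus i) (s : S) :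
    Red.IsMaximalTorus ((Over.pullback (Red.geomPt s)).map i) := by
  haveI := hT.1
  haveI := hT.2.1
  haveI : (Over.pullback (Red.geomPt s)).IsRightAdjoint := (Over.mapPullbackAdj (Red.geomPt s)).isRightAdjoint
  rw [MaxTorusBC.isMaximalTorus_iff (SolvGrp.isTorus_bc (Red.geomPt s) hT.2.2.1)]
  intro s'
  rw [MaxTorusBC.max_cmp_iff (rfl : Red.geomPt s' ≫ Red.geomPt s = _) i]
  refine (MaxTorusBC.max_geom_iff i hT.2.2.1 _ s ?_).mpr (hT.2.2.2 s)
  rw [Scheme.Hom.comp_apply]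
  show (Spec.map _ ≫ S.fromSpecResidueField s) _ = s
  rw [Scheme.Hom.comp_apply, Scheme.fromSpecResidueField_apply]

/-- Over an algebraically closed field, a central maximal torus is the only one. -/
theorem exists_iso_of_central {k : Type u} [Field k] [IsAlgClosed k]
    {C T T' : Over (Spec (CommRingCat.of k))} [GrpObj C] [GrpObj T] [GrpObj T'] [Smooth C.hom] [QuasiCompact C.hom]
    {t : T ⟶ C} {t' : T' ⟶ C} (ht : AGF.IsMaxTorus t) (ht' : AGF.IsMaxTorus t')
    (hc : ∀ {X : Over (Spec (CommRingCat.of k))} (g : X ⟶ C) (x : X ⟶ T), g * (x ≫ t) = (x ≫ t) * g) :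
    ∃ φ : T ≅ T', φ.hom ≫ t' = t := by
  haveI := AntiAffine.isSeparated_grp C
  obtain ⟨C₀, _, r, hr, hrc, hrs, hrC, hrq, R, hR, hcov⟩ := AGFLib.BorelExist.exists_idComp (P := C)
  haveI := hr; haveI := hrc; haveI := hrs; haveI := hrC; haveI := hrq
  haveI : Mono r := AGFLib.BorelExist.mono_of_closedImmersion r
  have fac : ∀ {U : Over (Spec (CommRingCat.of k))} [GrpObj U] (u : U ⟶ C), AGF.IsMaxTorus u →
      ∃ u₀ : U ⟶ C₀, AGF.IsMaxTorus u₀ ∧ u₀ ≫ r = u := fun {U} _ u hu => by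
    haveI := hu.1
    haveI := hu.2.1
    obtain ⟨ha, hs, hc, -⟩ := SolvGrp.torus_props hu.2.2.1
    haveI := ha; haveI := hs; haveI := hc
    haveI : QuasiCompact U.hom := inferInstance
    let up : (𝟙_ _ ⟶ U) →* (𝟙_ _ ⟶ C) :=
      { toFun := fun x => x ≫ u, map_one' := MonObj.one_comp u, map_mul' := fun a b => MonObj.mul_comp a b u }
    let Γ : Subgroup (𝟙_ _ ⟶ U) := (SolvGrp.rangePts r).comap up
    classical
    have hcov' : ∀ x : 𝟙_ _ ⟶ U, ∃ s ∈ R, s⁻¹ * (x ≫ u) ∈ SolvGrp.rangePts r := fun x => by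
      obtain ⟨s, hs, q, hq⟩ := hcov (x ≫ u)
      exact ⟨s, hs, q, by rw [← hq, inv_mul_cancel_left]⟩
    let rep : (𝟙_ _ ⟶ C) → (𝟙_ _ ⟶ U) := fun s =>
      if h : ∃ x : 𝟙_ _ ⟶ U, s⁻¹ * (x ≫ u) ∈ SolvGrp.rangePts r then h.choose else 1
    have htop : Γ = ⊤ := by
      refine SolvGrp.eq_top_of_finite Γ ((SolvGrp.ptsClosed_range r).preimage u) (rep '' R) (hR.image _) fun x => ?_
      obtain ⟨s, hs, hsx⟩ := hcov' x
      have h : ∃ y : 𝟙_ _ ⟶ U, s⁻¹ * (y ≫ u) ∈ SolvGrp.rangePts r := ⟨x, hsx⟩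
      refine ⟨rep s, ⟨s, hs, rfl⟩, ?_⟩
      have h1 : s⁻¹ * (rep s ≫ u) ∈ SolvGrp.rangePts r := by
        simp only [rep, dif_pos h]; exact h.choose_spec
      show ((rep s)⁻¹ * x) ≫ u ∈ SolvGrp.rangePts r
      rw [MonObj.mul_comp, GrpObj.inv_comp]
      simpa [_root_.mul_assoc] using mul_mem (inv_mem h1) hsx
    haveI : IsReduced U.left := isReduced_of_smooth_field U.hom
    haveI : LocallyOfFiniteType C₀.hom := inferInstance
    obtain ⟨u₀, hu₀⟩ := AGFLib.BorelExist.exists_lift_pts r u fun x => by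
      obtain ⟨q, hq⟩ := (htop ▸ Subgroup.mem_top x : x ∈ Γ)
      exact ⟨q, hq⟩
    haveI : IsMonHom u₀ := AGFLib.isMonHom_of_mul u₀ fun X a b => by
      rw [← cancel_mono r, Category.assoc, hu₀, MonObj.mul_comp, MonObj.mul_comp, Category.assoc, Category.assoc, hu₀]
    haveI : Mono (u₀ ≫ r) := hu₀.symm ▸ hu.2.1
    exact ⟨u₀, ⟨inferInstance, mono_of_mono u₀ r, hu.2.2.1, fun T' _ j _ _ g hT' hg =>
      hu.2.2.2 T' (j ≫ r) g hT' (by rw [← Category.assoc, hg, hu₀])⟩, hu₀⟩
  obtain ⟨u, hu, hur⟩ := fac t ht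
  obtain ⟨u', hu', hur'⟩ := fac t' ht'
  obtain ⟨g, φ, hφ⟩ := NonAffine.maxTori_conj hu hu'
  refine ⟨φ, ?_⟩
  have h := congrArg (· ≫ r) hφ
  simp only [MonObj.mul_comp, GrpObj.inv_comp, Category.assoc, hur, hur'] at h
  rw [← h]
  have h2 := hc (toUnit T ≫ g ≫ r) (𝟙 T)
  rw [Category.id_comp] at h2
  rw [h2, mul_inv_cancel_right]

end Groth.Agent.MaxTorCent
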