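import Groth.Agent.MaxTorCent.Cartan

/-! The normaliser of a Cartan subgroup is that of its maximal torus. -/

set_option backward.isDefEq.respectTransparency false
set_option backward.isDefEq.respectTransparency.types false
set_option linter.style.haveILetI false
set_option autoImplicit false

universe u

open CategoryTheory Limits MonoidalCategory CartesianMonoidalCategory MonObj AlgebraicGeometry

namespace Groth.Agent.MaxTorCent

variable {S : Scheme.{u}}

set_option synthInstance.maxHeartbeats 200000 in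
theorem theta_inv {T : Scheme.{u}} (g : T ⟶ S) {G : Over S} [GrpObj G] {Y : Over T} (a : Y ⟶ Red.bc g G) :
    DSPtsLib.theta g a⁻¹ = (DSPtsLib.theta g a)⁻¹ :=
  eq_inv_of_mul_eq_one_left (((DSPtsLib.theta_mul g a⁻¹ a).symm.trans
    (congrArg (DSPtsLib.theta g) (inv_mul_cancel a))).trans (GrpSchLib.HomUnitLocus.theta_one g Y))

/-- Conjugation by a section. -/
noncomputable def conjEnd {G : Over S} [GrpObj G] (sec : 𝟙_ (Over S) ⟶ G) : G ⟶ G :=
  (toUnit G ≫ sec) * 𝟙 G * (toUnit G ≫ sec)⁻¹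

theorem comp_conjEnd {G Y : Over S} [GrpObj G] (sec : 𝟙_ (Over S) ⟶ G) (y : Y ⟶ G) :
    y ≫ conjEnd sec = (toUnit Y ≫ sec) * y * (toUnit Y ≫ sec)⁻¹ := by
  rw [conjEnd, MonObj.comp_mul, MonObj.comp_mul, GrpObj.comp_inv, Category.comp_id, ← Category.assoc,
    toUnit_unique (y ≫ toUnit G) (toUnit Y)]

instance isMonHom_conjEnd {G : Over S} [GrpObj G] (sec : 𝟙_ (Over S) ⟶ G) : IsMonHom (conjEnd sec) :=
  AGFLib.isMonHom_of_mul _ fun X a b => by rw [comp_conjEnd, comp_conjEnd, comp_conjEnd]; group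

theorem conjEnd_conjEnd {G : Over S} [GrpObj G] (sec δ : 𝟙_ (Over S) ⟶ G) (h : δ = sec⁻¹) :
    conjEnd sec ≫ conjEnd δ = 𝟙 G := by
  subst h
  rw [comp_conjEnd, conjEnd, GrpObj.comp_inv]
  group

instance isIso_conjEnd {G : Over S} [GrpObj G] (sec : 𝟙_ (Over S) ⟶ G) : IsIso (conjEnd sec) :=
  ⟨conjEnd sec⁻¹, conjEnd_conjEnd _ _ rfl, conjEnd_conjEnd _ _ (inv_inv sec).symm⟩

/-- A maximal torus stays maximal after applying an automorphism. -/
theorem isMaximalTorus_comp_iso {G G' T : Over S} [GrpObj G] [GrpObj G'] [GrpObj T] {i : T ⟶ G}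
    (hT : Red.IsMaximalTorus i) (φ : G ⟶ G') [IsMonHom φ] [IsIso φ] : Red.IsMaximalTorus (i ≫ φ) := by
  haveI := hT.1
  haveI := hT.2.1
  refine ⟨inferInstance, inferInstance, hT.2.2.1, fun s T' _ j _ _ f hT' hf => ?_⟩
  haveI : (Over.pullback (Red.geomPt s)).IsRightAdjoint := (Over.mapPullbackAdj (Red.geomPt s)).isRightAdjoint
  haveI : IsMonHom (inv φ) := AGFLib.isMonHom_of_mul _ fun X a b => by
    rw [← cancel_mono φ, MonObj.mul_comp _ _ φ, Category.assoc, Category.assoc, Category.assoc, IsIso.inv_hom_id,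
      Category.comp_id, Category.comp_id, Category.comp_id]
  exact hT.2.2.2 s T' (j ≫ (Over.pullback (Red.geomPt s)).map (inv φ)) f hT' (by
    rw [← Category.assoc, hf, ← Functor.map_comp, Category.assoc, IsIso.hom_inv_id, Category.comp_id])

/-- Maximal tori stay maximal after any base change. -/
theorem isMaximalTorus_bc {S' : Scheme.{u}} {T G : Over S} [GrpObj T] [GrpObj G]
    [LocallyOfFinitePresentation G.hom] [QuasiCompact G.hom] [QuasiSeparated G.hom]
    {i : T ⟶ G} (h : Red.IsMaximalTorus i) (f : S' ⟶ S) : Red.IsMaximalTorus ((Over.pullback f).map i) := by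
  haveI := h.1
  haveI := h.2.1
  haveI : (Over.pullback f).IsRightAdjoint := (Over.mapPullbackAdj f).isRightAdjoint
  rw [MaxTorusBC.isMaximalTorus_iff (SolvGrp.isTorus_bc f h.2.2.1)]
  intro s'
  rw [MaxTorusBC.max_cmp_iff (rfl : Red.geomPt s' ≫ f = _) i]
  refine (MaxTorusBC.max_geom_iff i h.2.2.1 _ (f s') ?_).2 (h.2.2.2 _)
  rw [Scheme.Hom.comp_apply]
  congr 1
  show (Spec.map _ ≫ S'.fromSpecResidueField s') _ = s'
  rw [Scheme.Hom.comp_apply, Scheme.fromSpecResidueField_apply]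

/-- A point normalising the centraliser of a maximal torus sends the torus into itself. -/
theorem exists_conj_torus {G T C : Over S} [GrpObj G] [GrpObj T] [GrpObj C] [Smooth G.hom] [IsSeparated G.hom]
    [QuasiCompact G.hom] {i : T ⟶ G} (hT : Red.IsMaximalTorus i) {c : C ⟶ G} (hc : Red.IsCentralizerOf i c)
    {X : Over S} (g : X ⟶ G)
    (hg : ∀ (X' : Over S) (x : X' ⟶ X) (y : X' ⟶ C), ∃ y' : X' ⟶ C, (x ≫ g) * (y ≫ c) * (x ≫ g)⁻¹ = y' ≫ c)
    (X' : Over S) (x : X' ⟶ X) (h : X' ⟶ T) : ∃ h' : X' ⟶ T, (x ≫ g) * (h ≫ i) * (x ≫ g)⁻¹ = h' ≫ i := by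
  haveI := hT.1; haveI := hT.2.1; haveI := hc.1; haveI := hc.2.1
  let σ := X.hom
  let F := Over.pullback σ
  haveI : (Over.pullback σ).IsRightAdjoint := (Over.mapPullbackAdj σ).isRightAdjoint
  let Y₀ : Over X.left := Over.mk (𝟙 X.left)
  let eY : (Over.map σ).obj Y₀ ≅ X := Over.isoMk (Iso.refl _) (by show 𝟙 _ ≫ X.hom = 𝟙 _ ≫ σ; rfl)
  obtain ⟨sec₀, hsec₀⟩ := (DSPtsLib.theta_bijective (g := σ) (Y := Y₀) (H := G)).2 (eY.hom ≫ g)
  let sec : 𝟙_ (Over X.left) ⟶ Red.bc σ G := sec₀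
  haveI : Smooth (F.obj G).hom := inferInstanceAs (Smooth (pullback.snd G.hom σ))
  haveI : IsSeparated (F.obj G).hom := inferInstanceAs (IsSeparated (pullback.snd G.hom σ))
  haveI : QuasiCompact (F.obj G).hom := inferInstanceAs (QuasiCompact (pullback.snd G.hom σ))
  have hTX := isMaximalTorus_bc hT σ
  obtain ⟨C', _, c', hc', hcl', hcart', i', hi', hmax', hcen'⟩ := exists_cartan (F.obj G) hTX
  haveI := hcl'; haveI := hc'.1; haveI := hc'.2.1
  haveI := hcart'.2.2.1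
  haveI : QuasiCompact C'.hom := by rw [← Over.w c']; infer_instance
  haveI : IsSeparated C'.hom := by rw [← Over.w c']; infer_instance
  obtain ⟨e, he⟩ := SolvGrp.centralizer_unique (SolvGrp.isCentralizerOf_bc σ i c hc) hc'
  -- the torus lies in the centraliser
  obtain ⟨iC, hiC⟩ := (hc.2.2 T i).mpr fun X'' t h => by
    rw [← MonObj.mul_comp, ← MonObj.mul_comp,
      GrpSchLib.MultTypeComm.points_comm (TorusQI.isMultTypeFT_of_isTorus hT.2.2.1)]
  have key : ∀ {Y : Over X.left} (a : Y ⟶ F.obj T), ∃ b : Y ⟶ F.obj C, (a ≫ F.map i) ≫ conjEnd sec = b ≫ F.map c := by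
    intro Y a
    let x₀ : (Over.map σ).obj Y ⟶ X := (Over.map σ).map (toUnit Y) ≫ eY.hom
    obtain ⟨y', hy'⟩ := hg _ x₀ (DSPtsLib.theta σ a ≫ iC)
    obtain ⟨b, hb⟩ := (DSPtsLib.theta_bijective (g := σ) (Y := Y) (H := C)).2 y'
    refine ⟨b, (DSPtsLib.theta_bijective (g := σ) (Y := Y) (H := G)).1 ?_⟩
    rw [comp_conjEnd, DSPtsLib.theta_mul, DSPtsLib.theta_mul, theta_inv,
      SubgroupNbhd.theta_map, DSPtsLib.theta_comp, SubgroupNbhd.theta_map, hb, ← hy', Category.assoc (DSPtsLib.theta σ a) iC c, hiC]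
    show _ * (DSPtsLib.theta σ a ≫ i) * _ = (((Over.map σ).map (toUnit Y) ≫ eY.hom) ≫ g) * (DSPtsLib.theta σ a ≫ i) * _
    rw [hsec₀, Category.assoc]
  obtain ⟨b, hb⟩ := key (𝟙 (F.obj T))
  rw [Category.id_comp] at hb
  obtain ⟨j, hj⟩ : ∃ j : F.obj T ⟶ C', j ≫ c' = F.map i ≫ conjEnd sec :=
    ⟨b ≫ e.hom, by rw [Category.assoc, he, hb]⟩
  have hmG := isMaximalTorus_comp_iso hTX (conjEnd sec)
  haveI := hmG.1
  haveI := hmG.2.1
  haveI : IsMonHom j := AGFLib.isMonHom_of_mul j fun Y a a' => by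
    rw [← cancel_mono c', Category.assoc, hj, MonObj.mul_comp, MonObj.mul_comp, Category.assoc, Category.assoc, hj]
  haveI : Mono (j ≫ c') := hj.symm ▸ hmG.2.1
  haveI : Mono j := mono_of_mono j c'
  have hjm : Red.IsMaximalTorus j := ⟨inferInstance, inferInstance, hTX.2.2.1, fun s T' _ k _ _ f hT' hf => by
    haveI : (Over.pullback (Red.geomPt s)).IsRightAdjoint := (Over.mapPullbackAdj (Red.geomPt s)).isRightAdjoint
    exact hmG.2.2.2 s T' (k ≫ (Over.pullback (Red.geomPt s)).map c') f hT' (by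
      rw [← Category.assoc, hf, ← Functor.map_comp, hj])⟩
  obtain ⟨f, hf⟩ := exists_factor hmax' hjm hcen'
  -- evaluate at the point
  let Y' : Over X.left := Over.mk x.left
  let e' : (Over.map σ).obj Y' ≅ X' := Over.isoMk (Iso.refl _) (by
    show 𝟙 _ ≫ X'.hom = x.left ≫ X.hom
    rw [Category.id_comp]; exact (Over.w x).symm)
  obtain ⟨a, ha⟩ := (DSPtsLib.theta_bijective (g := σ) (Y := Y') (H := T)).2 (e'.hom ≫ h)
  refine ⟨e'.inv ≫ DSPtsLib.theta σ (a ≫ f), (cancel_epi e'.hom).mp ?_⟩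
  have h1 : (a ≫ F.map i) ≫ conjEnd sec = (a ≫ f) ≫ F.map i := by
    rw [Category.assoc, Category.assoc, ← hj, ← hf, Category.assoc, hi']
  have h2 := congrArg (DSPtsLib.theta σ) h1
  rw [comp_conjEnd, DSPtsLib.theta_mul, DSPtsLib.theta_mul, theta_inv, SubgroupNbhd.theta_map,
    SubgroupNbhd.theta_map, DSPtsLib.theta_comp, ha, hsec₀] at h2
  have hx : (Over.map σ).map (toUnit Y') ≫ eY.hom = e'.hom ≫ x := by
    apply Over.OverMorphism.ext
    show (toUnit Y').left ≫ 𝟙 _ = 𝟙 _ ≫ x.left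
    rw [Category.comp_id, Category.id_comp]
    exact ((Category.comp_id _).symm.trans (Over.w (toUnit Y')))
  rw [← Category.assoc ((Over.map σ).map (toUnit Y')), hx] at h2
  simp only [Category.assoc, MonObj.comp_mul, GrpObj.comp_inv, Iso.hom_inv_id_assoc] at h2 ⊢
  exact h2

/-- The normaliser of a Cartan subgroup is the normaliser of its maximal torus. -/
theorem isNormalizerOf_iff {G T C N : Over S} [GrpObj G] [GrpObj T] [GrpObj C] [GrpObj N] [Smooth G.hom]
    [IsSeparated G.hom] [QuasiCompact G.hom] {i : T ⟶ G} (hT : Red.IsMaximalTorus i) {c : C ⟶ G}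
    (hc : Red.IsCentralizerOf i c) (n : N ⟶ G) : Red.IsNormalizerOf c n ↔ Red.IsNormalizerOf i n := by
  refine and_congr_right fun _ => and_congr_right fun _ => forall_congr' fun X => forall_congr' fun g =>
    iff_congr Iff.rfl ⟨fun h X' x t => ?_, fun h X' x y => ?_⟩
  · refine ⟨exists_conj_torus hT hc g (fun X'' x' y => (h X'' x' y).1) X' x t, ?_⟩
    obtain ⟨t', ht'⟩ := exists_conj_torus hT hc g⁻¹ (fun X'' x' y => by
      obtain ⟨y', hy'⟩ := (h X'' x' y).2
      exact ⟨y', by rw [GrpObj.comp_inv, inv_inv, hy']⟩) X' x t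
    exact ⟨t', by rw [← ht', GrpObj.comp_inv, inv_inv]⟩
  · have hcomm : ∀ (X'' : Over S) (z : X'' ⟶ X') (t : X'' ⟶ T),
        (z ≫ y ≫ c) * (t ≫ i) = (t ≫ i) * (z ≫ y ≫ c) := (hc.2.2 _ _).mp ⟨y, rfl⟩
    constructor
    · obtain ⟨w, hw⟩ := (hc.2.2 X' ((x ≫ g) * (y ≫ c) * (x ≫ g)⁻¹)).mpr fun X'' z t => by
        obtain ⟨t', ht'⟩ := (h X'' (z ≫ x) t).2
        have h1 := hcomm X'' z t'
        rw [← ht', Category.assoc] at h1
        have h2 := congrArg (fun m => (z ≫ x ≫ g) * m * (z ≫ x ≫ g)⁻¹) h1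
        simp only [MonObj.comp_mul, GrpObj.comp_inv]
        simpa [_root_.mul_assoc] using h2
      exact ⟨w, hw.symm⟩
    · obtain ⟨w, hw⟩ := (hc.2.2 X' ((x ≫ g)⁻¹ * (y ≫ c) * (x ≫ g))).mpr fun X'' z t => by
        obtain ⟨t', ht'⟩ := (h X'' (z ≫ x) t).1
        have h1 := hcomm X'' z t'
        rw [← ht', Category.assoc] at h1
        have h2 := congrArg (fun m => (z ≫ x ≫ g)⁻¹ * m * (z ≫ x ≫ g)) h1
        simp only [MonObj.comp_mul, GrpObj.comp_inv]
        simpa [_root_.mul_assoc] using h2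
      exact ⟨w, hw.symm⟩

end Groth.Agent.MaxTorCent
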