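import Groth.Agent.MaxTorCent.Unique

/-! The centraliser of a maximal torus is a Cartan subgroup. -/

set_option backward.isDefEq.respectTransparency false
set_option backward.isDefEq.respectTransparency.types false
set_option linter.style.haveILetI false
set_option autoImplicit false

universe u

open CategoryTheory Limits MonoidalCategory CartesianMonoidalCategory MonObj AlgebraicGeometry

namespace Groth.Agent.MaxTorCent

variable {S : Scheme.{u}}

/-- The centraliser of a maximal torus is a Cartan subgroup. -/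
theorem exists_cartan (G : Over S) [GrpObj G] [Smooth G.hom] [IsSeparated G.hom] [QuasiCompact G.hom]
    {T : Over S} [GrpObj T] {i : T ⟶ G} (hT : Red.IsMaximalTorus i) :
    ∃ (C : Over S) (_ : GrpObj C) (c : C ⟶ G), Red.IsCentralizerOf i c ∧ IsClosedImmersion c.left ∧
      SGA3x.IsCartan c ∧ ∃ i' : T ⟶ C, i' ≫ c = i ∧ Red.IsMaximalTorus i' ∧
        ∀ {X : Over S} (g : X ⟶ C) (x : X ⟶ T), g * (x ≫ i') = (x ≫ i') * g := by
  haveI := hT.1
  haveI := hT.2.1
  obtain ⟨C, _, c, hc, hcl, hsm⟩ := exists_centralizer i (TorusQI.isMultTypeFT_of_isTorus hT.2.2.1)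
  haveI := hc.1
  haveI := hc.2.1
  haveI := hcl
  haveI := hsm
  have hcomm : ∀ {X : Over S} (g : X ⟶ C) (x : X ⟶ T), (g ≫ c) * (x ≫ i) = (x ≫ i) * (g ≫ c) := fun g x => by
    simpa using (hc.2.2 _ (g ≫ c)).mp ⟨g, rfl⟩ _ (𝟙 _) x
  obtain ⟨i', hi'⟩ := (hc.2.2 T i).mpr fun X' x h => by
    rw [← MonObj.mul_comp, ← MonObj.mul_comp,
      GrpSchLib.MultTypeComm.points_comm (TorusQI.isMultTypeFT_of_isTorus hT.2.2.1)]
  haveI : IsMonHom i' := AGFLib.isMonHom_of_mul i' fun X a b => by
    rw [← cancel_mono c, Category.assoc, hi', MonObj.mul_comp, MonObj.mul_comp, Category.assoc, Category.assoc, hi']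
  haveI : Mono (i' ≫ c) := hi'.symm ▸ hT.2.1
  haveI : Mono i' := mono_of_mono i' c
  refine ⟨C, inferInstance, c, hc, hcl, ⟨hc.1, hc.2.1, hsm, fun s => ?_⟩, i', hi', ?_, fun g x => ?_⟩
  · haveI : (Over.pullback (Red.geomPt s)).IsRightAdjoint := (Over.mapPullbackAdj (Red.geomPt s)).isRightAdjoint
    exact ⟨inferInstance, inferInstance, Red.geomFibre s T, inferInstance, (Over.pullback (Red.geomPt s)).map i,
      isMaximalTorus_geomFibre hT s, SolvGrp.isCentralizerOf_bc (Red.geomPt s) i c hc⟩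
  · refine ⟨inferInstance, inferInstance, hT.2.2.1, fun s T' _ j _ _ f hT' hf => ?_⟩
    haveI : (Over.pullback (Red.geomPt s)).IsRightAdjoint := (Over.mapPullbackAdj (Red.geomPt s)).isRightAdjoint
    exact hT.2.2.2 s T' (j ≫ (Over.pullback (Red.geomPt s)).map c) f hT' (by
      rw [← Category.assoc, hf, ← Functor.map_comp, hi'])
  · rw [← cancel_mono c, MonObj.mul_comp, MonObj.mul_comp, Category.assoc, hi']
    exact hcomm g x

end Groth.Agent.MaxTorCent
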