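import Groth.Agent.MaxTorCent.Basic

/-! A central maximal torus is the only maximal torus. -/

set_option backward.isDefEq.respectTransparency false
set_option backward.isDefEq.respectTransparency.types false
set_option linter.style.haveILetI false
set_option autoImplicit false

universe u

open CategoryTheory Limits MonoidalCategory CartesianMonoidalCategory MonObj AlgebraicGeometry

namespace Groth.Agent.MaxTorCent

open GrpSchLib GrpSchLib.SubgroupEqLocus

variable {S : Scheme.{u}}

/-- A central maximal torus agrees with every maximal torus on every fibre. -/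
theorem le_fibre {C T T' : Over S} [GrpObj C] [GrpObj T] [GrpObj T'] [Smooth C.hom] [QuasiCompact C.hom]
    [QuasiSeparated C.hom] {t : T ⟶ C} {t' : T' ⟶ C} [IsMonHom t] [IsMonHom t'] [Mono t]
    (ht : Red.IsMaximalTorus t) (ht' : Red.IsMaximalTorus t')
    (hc : ∀ {X : Over S} (g : X ⟶ C) (x : X ⟶ T), g * (x ≫ t) = (x ≫ t) * g) (s : S) :
    Le t t' (S.fromSpecResidueField s) := by
  let p := Red.geomPt s
  let F := Over.pullback p
  haveI : Smooth (F.obj C).hom := inferInstanceAs (Smooth (pullback.snd C.hom p))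
  haveI : QuasiCompact (F.obj C).hom := inferInstanceAs (QuasiCompact (pullback.snd C.hom p))
  haveI : IsMonHom (F.map t) := inferInstance
  obtain ⟨φ, hφ⟩ := exists_iso_of_central (SolvGrp.isMaxTorus_of_isMaximalTorus (isMaximalTorus_geomFibre ht s))
    (SolvGrp.isMaxTorus_of_isMaximalTorus (isMaximalTorus_geomFibre ht' s)) fun {X} g x => by
      apply (DSPtsLib.theta_bijective (g := p) (Y := X) (H := C)).1
      rw [DSPtsLib.theta_mul, DSPtsLib.theta_mul, SubgroupNbhd.theta_map]
      exact hc _ _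
  have hφ' : φ.inv ≫ F.map t = F.map t' := by rw [← hφ, Iso.inv_hom_id_assoc]
  have hgeom : Le t t' p := fun Y q b => by
    let Y' : Over (Spec (CommRingCat.of (AlgebraicClosure (S.residueField s)))) := Over.mk q.left
    let eY : (Over.map p).obj Y' ≅ Y := Over.isoMk (Iso.refl _) (by
      show 𝟙 _ ≫ Y.hom = q.left ≫ p
      rw [Category.id_comp]; exact (Over.w q).symm)
    obtain ⟨b', hb'⟩ := (DSPtsLib.theta_bijective (g := p) (Y := Y') (H := T')).2 (eY.hom ≫ b)
    refine ⟨eY.inv ≫ DSPtsLib.theta p (b' ≫ φ.inv), ?_⟩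
    rw [Category.assoc, ← SubgroupNbhd.theta_map, Category.assoc, hφ', SubgroupNbhd.theta_map, hb', Category.assoc,
      Iso.inv_hom_id_assoc]
  let l := Spec.map (CommRingCat.ofHom (algebraMap (S.residueField s) (AlgebraicClosure (S.residueField s))))
  haveI : Surjective l := ⟨fun x => ⟨IsLocalRing.closedPoint _, Subsingleton.elim (α := PrimeSpectrum (S.residueField s)) _ x⟩⟩
  haveI : Flat l := by
    rw [HasRingHomProperty.Spec_iff (P := @Flat)]
    exact RingHom.flat_algebraMap_iff.mpr inferInstance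
  exact Le.of_covers' l (FpqcDescLib.covers_of_isCovering (FpqcDescLib.isCovering_of_quasiCompact l)) hgeom

/-- A central maximal torus contains every maximal torus. -/
theorem exists_factor {C T T' : Over S} [GrpObj C] [GrpObj T] [GrpObj T'] [Smooth C.hom] [QuasiCompact C.hom]
    [QuasiSeparated C.hom] {t : T ⟶ C} {t' : T' ⟶ C} (ht : Red.IsMaximalTorus t) (ht' : Red.IsMaximalTorus t')
    (hc : ∀ {X : Over S} (g : X ⟶ C) (x : X ⟶ T), g * (x ≫ t) = (x ≫ t) * g) :
    ∃ f : T' ⟶ T, f ≫ t = t' := by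
  haveI := ht.1; haveI := ht.2.1; haveI := ht'.1
  haveI : LocallyOfFiniteType C.hom := inferInstance
  have hloc : ∀ s : S, ∃ U : S.Opens, s ∈ U ∧ Le t t' U.ι := fun s => by
    refine SubgroupNbhd.exists_nhd_le t t' (TorusQI.isMultTypeFT_of_isTorus ht.2.2.1)
      (TorusQI.isMultTypeFT_of_isTorus ht'.2.2.1) (Or.inr inferInstance) s (le_fibre ht ht' hc s) fun Y q b g => ?_
    obtain ⟨a, ha⟩ := le_fibre ht ht' hc s Y q b
    rw [← ha]
    exact hc g a
  choose U hsU hU using hloc
  -- glue the local factorisations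
  haveI : Mono t.left := inferInstanceAs (Mono ((Over.forget _).map t))
  let W : S → T'.left.Opens := fun s => T'.hom ⁻¹ᵁ (U s)
  have hW : TopologicalSpace.IsOpenCover W :=
    .mk (top_le_iff.mp fun x _ => TopologicalSpace.Opens.mem_iSup.mpr ⟨T'.hom x, hsU (T'.hom x)⟩)
  let 𝒰 := T'.left.openCoverOfIsOpenCover W hW
  have hfac : ∀ s, ∃ a : (W s : Scheme.{u}) ⟶ T.left, a ≫ t.left = (W s).ι ≫ t'.left := fun s => by
    let Y : Over S := Over.mk ((W s).ι ≫ T'.hom)
    obtain ⟨a, ha⟩ := hU s Y (Over.homMk (T'.hom ∣_ U s) (by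
      show (T'.hom ∣_ U s) ≫ (U s).ι = (W s).ι ≫ T'.hom
      exact morphismRestrict_ι _ _)) (Over.homMk (W s).ι rfl)
    exact ⟨a.left, congrArg (fun m : Y ⟶ C => m.left) ha⟩
  choose a ha using hfac
  let f := 𝒰.glueMorphisms a fun x y => by
    rw [← cancel_mono t.left, Category.assoc, Category.assoc]
    show _ ≫ a x ≫ _ = _ ≫ a y ≫ _
    rw [ha, ha]
    exact pullback.condition_assoc _
  have hf : f ≫ t.left = t'.left := 𝒰.hom_ext _ _ fun x => by
    rw [← Category.assoc, Scheme.Cover.ι_glueMorphisms]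
    exact ha x
  exact ⟨Over.homMk f (by rw [← Over.w t, ← Category.assoc, hf, Over.w t']), Over.OverMorphism.ext hf⟩

/-- A central maximal torus is the only maximal torus. -/
theorem exists_iso {C T T' : Over S} [GrpObj C] [GrpObj T] [GrpObj T'] [Smooth C.hom] [QuasiCompact C.hom]
    [QuasiSeparated C.hom] {t : T ⟶ C} {t' : T' ⟶ C} (ht : Red.IsMaximalTorus t) (ht' : Red.IsMaximalTorus t')
    (hc : ∀ {X : Over S} (g : X ⟶ C) (x : X ⟶ T), g * (x ≫ t) = (x ≫ t) * g) :
    ∃ φ : T' ≅ T, φ.hom ≫ t = t' := by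
  obtain ⟨f, hf⟩ := exists_factor ht ht' hc
  haveI := ht.1; haveI := ht.2.1; haveI := ht'.1; haveI := ht'.2.1
  obtain ⟨g, hg⟩ := exists_factor ht' ht fun {X} h x => by
    rw [← hf, ← Category.assoc]
    exact hc h _
  exact ⟨⟨f, g, by rw [← cancel_mono t', Category.assoc, hg, hf, Category.id_comp],
    by rw [← cancel_mono t, Category.assoc, hf, hg, Category.id_comp]⟩, hf⟩

end Groth.Agent.MaxTorCent
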